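import Groth.Agent.H9DiagReg.Basic
import Groth.Agent.H23.RedSub
import Groth.Agent.FDescent.MaxPoint
import Groth.Agent.FibDim.AffineSpaceFibre
import Groth.Agent.AssLib.FlatField
import Mathlib.RingTheory.Ideal.KrullsHeightTheorem

/-!
# Dimension of preimages under regular immersions and of intersections
-/

noncomputable section

set_option autoImplicit false
set_option linter.style.haveILetI false
set_option backward.isDefEq.respectTransparency.types false

universe u

open AlgebraicGeometry CategoryTheory Limits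

namespace Groth.Agent.H9DimInt

open DimFormula

variable {K : Type u} [Field K]

/-- Cutting an integral scheme of finite type by a regular immersion of codimension `c`. -/
theorem le_rd_add {Z Y X : Scheme.{u}} (g : Z ⟶ Spec (CommRingCat.of K)) [LocallyOfFiniteType g]
    [IsIntegral Z] (ι : Z ⟶ Y) [IsClosedImmersion ι] (f : X ⟶ Y) (c : ℕ)
    (hreg : RegImm.IsRegularImmersionOfCodim RegImm.Kind.regular c f) (w : X) (z : Z) (hwz : f w = ι z)
    (hmax : ∀ (w' : X) (z' : Z), f w' = ι z' → z' ⤳ z → z' = z) (d : ℕ)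
    (hd : topologicalKrullDim Z = d) : d ≤ FibDim.rd g z + c := by
  classical
  haveI := FibDim.subsingleton_spec_field K
  haveI : IsLocallyNoetherian Z := LocallyOfFiniteType.isLocallyNoetherian g
  obtain ⟨U, hwU, hci, rs, hlen, -, hker⟩ := hreg.2 w
  haveI := hci
  obtain ⟨hU', hs⟩ := Groth.Agent.Synt29.surjective_app_of_isClosedImmersion_restrict f U.1 U.2
  let W : Z.Opens := ι ⁻¹ᵁ U.1
  have hW : IsAffineOpen W := U.2.preimage ι
  have hzW : z ∈ W := by show ι z ∈ U.1; rw [← hwz]; exact hwU
  let P := hW.primeIdealOf ⟨z, hzW⟩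
  let J : Ideal Γ(Z, W) := (Ideal.ofList rs).map (ι.app U.1).hom
  have hcomapZ : ∀ (z' : Z) (hz' : z' ∈ W), (U.2.primeIdealOf ⟨ι z', hz'⟩).asIdeal =
      (hW.primeIdealOf ⟨z', hz'⟩).asIdeal.comap (ι.app U.1).hom := fun z' hz' => by
    rw [show (ι.app U.1).hom = (ι.appLE U.1 (ι ⁻¹ᵁ U.1) le_rfl).hom by simp only [Scheme.Hom.app_eq_appLE]]
    exact (congrArg PrimeSpectrum.asIdeal
      (IsAffineOpen.comap_primeIdealOf_appLE (f := ι) U.1 U.2 (ι ⁻¹ᵁ U.1) hW le_rfl hz')).symm
  have hrange : ∀ (z' : Z) (hz' : z' ∈ W),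
      J ≤ (hW.primeIdealOf ⟨z', hz'⟩).asIdeal ↔ ∃ w' : X, f w' = ι z' := by
    intro z' hz'
    rw [Ideal.map_le_iff_le_comap, ← hcomapZ z' hz', ← hker]
    constructor
    · intro hle
      haveI : ((U.2.primeIdealOf ⟨ι z', hz'⟩).asIdeal.map (f.app U.1).hom).IsPrime :=
        Ideal.map_isPrime_of_surjective hs hle
      let Q : ↥(Spec Γ(X, f ⁻¹ᵁ U.1)) :=
        ⟨(U.2.primeIdealOf ⟨ι z', hz'⟩).asIdeal.map (f.app U.1).hom, inferInstance⟩
      refine ⟨hU'.fromSpec Q, ?_⟩
      refine Eq.trans ?_ (U.2.fromSpec_primeIdealOf ⟨ι z', hz'⟩)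
      rw [← Scheme.Hom.comp_apply,
        ← IsAffineOpen.SpecMap_appLE_fromSpec f U.2 hU' le_rfl, Scheme.Hom.comp_apply]
      congr 1
      apply PrimeSpectrum.ext
      show ((U.2.primeIdealOf ⟨ι z', hz'⟩).asIdeal.map (f.app U.1).hom).comap (f.appLE U.1 (f ⁻¹ᵁ U.1) le_rfl).hom = _
      rw [← Scheme.Hom.app_eq_appLE, Ideal.comap_map_of_surjective _ hs, ← RingHom.ker_eq_comap_bot]
      exact sup_eq_left.2 hle
    · rintro ⟨w', hw'⟩
      have hw'U : w' ∈ f ⁻¹ᵁ U.1 := by show f w' ∈ U.1; rw [hw']; exact hz'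
      have h1 := congrArg PrimeSpectrum.asIdeal
        (IsAffineOpen.comap_primeIdealOf_appLE (f := f) U.1 U.2 (f ⁻¹ᵁ U.1) hU' le_rfl hw'U)
      have h2 : (⟨f w', hw'U⟩ : U.1) = ⟨ι z', hz'⟩ := Subtype.ext hw'
      rw [← h2, ← h1, ← Scheme.Hom.app_eq_appLE]
      exact Ideal.comap_mono bot_le |>.trans' (RingHom.ker_eq_comap_bot _).le
  have hJP : J ≤ P.asIdeal := (hrange z hzW).2 ⟨w, hwz⟩
  have hmin : P.asIdeal ∈ J.minimalPrimes := by
    refine ⟨⟨P.isPrime, hJP⟩, fun Q hQ hle => ?_⟩
    let Q' : ↥(Spec Γ(Z, W)) := ⟨Q, hQ.1⟩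
    have hzsp : hW.fromSpec Q' ⤳ z := by
      exact ((VarDim.fromSpec_specializes_iff hW Q' P).2 hle).trans
        (specializes_of_eq (hW.fromSpec_primeIdealOf ⟨z, hzW⟩))
    have hQW : hW.fromSpec Q' ∈ W := VarDim.fromSpec_mem hW Q'
    have hQeq : hW.primeIdealOf ⟨hW.fromSpec Q', hQW⟩ = Q' :=
      hW.fromSpec.isOpenEmbedding.injective (hW.fromSpec_primeIdealOf _)
    obtain ⟨w', hw'⟩ := (hrange _ hQW).1 (by rw [hQeq]; exact hQ.2)
    have heq := hmax w' _ hw' hzsp
    have : Q' = P := by
      apply hW.fromSpec.isOpenEmbedding.injective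
      rw [heq]; exact (hW.fromSpec_primeIdealOf ⟨z, hzW⟩).symm
    rw [← this]
  haveI : IsNoetherianRing Γ(Z, W) := IsLocallyNoetherian.component_noetherian ⟨W, hW⟩
  have hJne : J ≠ ⊤ := ne_top_of_le_ne_top P.isPrime.ne_top hJP
  have hht : P.asIdeal.height ≤ (c : ℕ∞) := by
    refine (Ideal.height_le_spanRank_toENat_of_mem_minimal_primes J _ hmin).trans ?_
    rw [← Submodule.fg_iff_spanRank_eq_spanFinrank.mpr (IsNoetherian.noetherian J) |>.symm, map_natCast]
    refine Nat.cast_le.2 ?_
    have hJs : J = Submodule.span Γ(Z, W) (↑((rs.map (ι.app U.1).hom).toFinset) : Set Γ(Z, W)) := by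
      rw [List.coe_toFinset]
      exact Ideal.map_ofList _ _
    rw [hJs]
    refine (Submodule.spanFinrank_span_le_ncard_of_finite (Finset.finite_toSet _)).trans ?_
    rw [Set.ncard_coe_finset]
    exact (List.toFinset_card_le _).trans (by rw [List.length_map, hlen])
  have hcodim : (codim z : ℕ∞) ≤ c := by
    letI : Algebra Γ(Z, W) (Z.presheaf.stalk z) := (Z.presheaf.germ W z hzW).hom.toAlgebra
    haveI : IsLocalization.AtPrime (Z.presheaf.stalk z) P.asIdeal := hW.isLocalization_stalk ⟨z, hzW⟩
    have h1 := IsLocalization.AtPrime.ringKrullDim_eq_height P.asIdeal (Z.presheaf.stalk z)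
    rw [ringKrullDim_stalk] at h1
    have h2 : (codim z : ℕ∞) = P.asIdeal.height := by exact_mod_cast h1
    rw [h2]; exact hht
  obtain ⟨η, hη, hmaxη, he⟩ := exists_maximal_cd_eq_codim z
  have h := (cd_formula g hη).2 (H9DiagReg.codim_eq_of_closed.isUniversallyCatenary_of_stalk K _)
  have h2 : cd (g η) (g z) = 0 := by rw [Subsingleton.elim (g η) (g z)]; exact cd_self _
  have h3 : FibDim.rd g η = d := by
    have h4 := FibDim.topologicalKrullDim_closure g η
    have h5 : closure ({η} : Set Z) = Set.univ := by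
      have h6 := FDescent.closure_mem_irreducibleComponents hmaxη
      rw [irreducibleComponents_eq_singleton, Set.mem_singleton_iff] at h6
      exact h6
    rw [h5, (Homeomorph.Set.univ Z).isHomeomorph.topologicalKrullDim_eq, hd] at h4
    exact_mod_cast h4.symm
  have : codim z ≤ c := by exact_mod_cast hcodim
  omega

/-- Components of preimages. -/
theorem le_dim_component_preimage {X Y Z : Scheme.{u}} (gY : Y ⟶ Spec (CommRingCat.of K))
    [LocallyOfFiniteType gY] (f : X ⟶ Y) [LocallyOfFiniteType f] (c : ℕ)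
    (hreg : RegImm.IsRegularImmersionOfCodim RegImm.Kind.regular c f) (ι : Z ⟶ Y) [IsClosedImmersion ι]
    [IsIntegral Z] (d : ℕ) (hd : topologicalKrullDim Z = d) (T : Set ↥(pullback f ι))
    (hT : T ∈ irreducibleComponents ↥(pullback f ι)) :
    ((d : ℕ) : WithBot ℕ∞) ≤ topologicalKrullDim ↥T + c := by
  haveI := FibDim.subsingleton_spec_field K
  haveI : IsImmersion f := hreg.1
  obtain ⟨η, rfl, hη⟩ := FDescent.exists_maximal_of_mem_irreducibleComponents hT
  let p : pullback f ι ⟶ Spec (CommRingCat.of K) := pullback.snd f ι ≫ ι ≫ gY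
  haveI : IsImmersion (pullback.snd f ι) := MorphismProperty.pullback_snd f ι inferInstance
  have hw : f (pullback.fst f ι η) = ι (pullback.snd f ι η) := by
    rw [← Scheme.Hom.comp_apply, ← Scheme.Hom.comp_apply, pullback.condition]
  have h := le_rd_add (ι ≫ gY) ι f c hreg (pullback.fst f ι η) (pullback.snd f ι η) hw (fun w' z' he hsp => by
    obtain ⟨q, -, hq⟩ := Scheme.Pullback.exists_preimage_pullback w' z' he
    subst hq
    rw [hη q ((pullback.snd f ι).isEmbedding.isInducing.specializes_iff.1 hsp)]) d hd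
  rw [FibDim.topologicalKrullDim_closure p η, FibDim.rd_comp]
  exact_mod_cast h.trans (Nat.add_le_add_right (Nat.le_add_right _ _) c)

/-- Components of intersections in a smooth variety. -/
theorem le_dim_component_inter (X : Scheme.{u}) (f : X ⟶ Spec (CommRingCat.of K)) [Smooth f] [IsSeparated f]
    [IsIntegral X] (n r s : ℕ) (hn : topologicalKrullDim X = n) (V W : Set X) (hVc : IsClosed V)
    (hVi : IsIrreducible V) (hWc : IsClosed W) (hWi : IsIrreducible W)
    (hr : topologicalKrullDim ↥V = r) (hs : topologicalKrullDim ↥W = s) (Z : Set ↥(V ∩ W))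
    (hZ : Z ∈ irreducibleComponents ↥(V ∩ W)) :
    ((r + s : ℕ) : WithBot ℕ∞) ≤ topologicalKrullDim ↥Z + n := by
  haveI := FibDim.subsingleton_spec_field K
  let IV := Scheme.IdealSheafData.vanishingIdeal (⟨V, hVc⟩ : TopologicalSpace.Closeds X)
  let IW := Scheme.IdealSheafData.vanishingIdeal (⟨W, hWc⟩ : TopologicalSpace.Closeds X)
  let V' := IV.subscheme
  let W' := IW.subscheme
  let a : V' ⟶ X := IV.subschemeι
  let b : W' ⟶ X := IW.subschemeι
  have hra : Set.range a = V := H23.RedSub.range_vanishingIdeal _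
  have hrb : Set.range b = W := H23.RedSub.range_vanishingIdeal _
  haveI : IsIntegral V' := integral_of a (hra.symm ▸ hVi)
  haveI : IsIntegral W' := integral_of b (hrb.symm ▸ hWi)
  have hdV : topologicalKrullDim ↥V' = r := by
    rw [← hr, ← hra]; exact a.isEmbedding.toHomeomorph.isHomeomorph.topologicalKrullDim_eq
  have hdW : topologicalKrullDim ↥W' = s := by
    rw [← hs, ← hrb]; exact b.isEmbedding.toHomeomorph.isHomeomorph.topologicalKrullDim_eq
  -- the generic point of the component
  let E : Set ↥X := V ∩ W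
  have hEc : IsClosed E := hVc.inter hWc
  have hZc := isClosed_of_mem_irreducibleComponents Z hZ
  have hZ' : IsIrreducible (Subtype.val '' Z : Set X) := hZ.1.image _ continuous_subtype_val.continuousOn
  have hZ'c : IsClosed (Subtype.val '' Z : Set X) := hEc.isClosedEmbedding_subtypeVal.isClosedMap _ hZc
  let η := hZ'.genericPoint
  have hηs : closure ({η} : Set X) = Subtype.val '' Z := (hZ'.isGenericPoint_genericPoint hZ'c).def
  have hηE : η ∈ E := by
    obtain ⟨e, -, he⟩ := hηs.le (subset_closure rfl)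
    rw [← he]; exact e.2
  have hηmax : ∀ x ∈ E, x ⤳ η → x = η := by
    intro x hx hsp
    have hle : Subtype.val '' Z ⊆ closure ({x} : Set X) := by
      rw [← hηs]; exact hsp.closure_subset
    have hT : IsIrreducible (Subtype.val ⁻¹' closure ({x} : Set X) : Set ↥(V ∩ W)) := by
      have heq : closure ({(⟨x, hx⟩ : ↥(V ∩ W))} : Set ↥(V ∩ W)) = Subtype.val ⁻¹' closure ({x} : Set X) := by
        rw [Topology.IsInducing.subtypeVal.closure_eq_preimage_closure_image, Set.image_singleton]
      rw [← heq]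
      exact isIrreducible_singleton.closure
    have hle' : Z ⊆ Subtype.val ⁻¹' closure ({x} : Set X) := fun e he => hle ⟨e, he, rfl⟩
    have hTZ := hZ.2 hT hle'
    have hxZ : x ∈ closure ({η} : Set X) := by
      rw [hηs]
      exact ⟨⟨x, hx⟩, hTZ (subset_closure rfl : x ∈ closure ({x} : Set X)), rfl⟩
    exact (hsp.antisymm (specializes_iff_mem_closure.2 hxZ)).eq
  obtain ⟨v, hv⟩ := hra.ge hηE.1
  obtain ⟨w, hw⟩ := hrb.ge hηE.2
  -- the product
  let gV : V' ⟶ Spec (CommRingCat.of K) := a ≫ f
  let gW : W' ⟶ Spec (CommRingCat.of K) := b ≫ f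
  haveI : Flat gV := AssLib.flat_over_field gV
  haveI : Flat gW := AssLib.flat_over_field gW
  let P := pullback gV gW
  let j : P ⟶ pullback f f := pullback.map gV gW f f a b (𝟙 _) (Category.comp_id _) (Category.comp_id _)
  haveI : IsClosedImmersion j :=
    MorphismProperty.pullback_map (P := @IsClosedImmersion) inferInstance inferInstance
      (Category.comp_id _) (Category.comp_id _)
  have hj : ∃ q : P, j q = pullback.diagonal f η := by
    show pullback.diagonal f η ∈ Set.range j
    rw [Scheme.Pullback.range_map]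
    refine ⟨?_, ?_⟩
    · show pullback.fst f f (pullback.diagonal f η) ∈ Set.range a
      rw [← Scheme.Hom.comp_apply, pullback.diagonal_fst]
      exact ⟨v, hv⟩
    · show pullback.snd f f (pullback.diagonal f η) ∈ Set.range b
      rw [← Scheme.Hom.comp_apply, pullback.diagonal_snd]
      exact ⟨w, hw⟩
  obtain ⟨q, hq⟩ := hj
  obtain ⟨C, hC, hqC⟩ := exists_mem_irreducibleComponents_subset_of_isIrreducible _ (isIrreducible_singleton (x := q))
  let IC := Scheme.IdealSheafData.vanishingIdeal (⟨C, isClosed_of_mem_irreducibleComponents C hC⟩ : TopologicalSpace.Closeds P)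
  let C' := IC.subscheme
  let e : C' ⟶ P := IC.subschemeι
  have hre : Set.range e = C := H23.RedSub.range_vanishingIdeal _
  haveI : IsIntegral C' := integral_of e (hre.symm ▸ hC.1)
  obtain ⟨z, hz⟩ := hre.ge (hqC rfl)
  have hdC : topologicalKrullDim ↥C' = ((r + s : ℕ) : WithBot ℕ∞) := by
    rw [e.isEmbedding.toHomeomorph.isHomeomorph.topologicalKrullDim_eq, hre,
      FibDim.topologicalKrullDim_component_pullback C hC, hdV, hdW]
    push_cast; rfl
  let g : pullback f f ⟶ Spec (CommRingCat.of K) := pullback.fst f f ≫ f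
  have hd := le_rd_add ((e ≫ j) ≫ g) (e ≫ j) (pullback.diagonal f) n (H9DiagReg.main X f n hn) η z
    (by rw [Scheme.Hom.comp_apply, hz, hq]) (fun w' z' he hsp => by
      have hE : w' ∈ E := by
        have h1 : w' = a (pullback.fst gV gW (e z')) := by
          have := congrArg (fun t => pullback.fst f f t) he
          simp only [← Scheme.Hom.comp_apply, pullback.diagonal_fst, Category.assoc, j, pullback.lift_fst,
            Scheme.Hom.id_base, TopCat.id_app] at this
          exact this.trans (Scheme.Hom.comp_apply _ _ _)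
        have h2 : w' = b (pullback.snd gV gW (e z')) := by
          have := congrArg (fun t => pullback.snd f f t) he
          simp only [← Scheme.Hom.comp_apply, pullback.diagonal_snd, Category.assoc, j, pullback.lift_snd,
            Scheme.Hom.id_base, TopCat.id_app] at this
          exact this.trans (Scheme.Hom.comp_apply _ _ _)
        exact ⟨hra.le ⟨_, h1.symm⟩, hrb.le ⟨_, h2.symm⟩⟩
      have hsp' : pullback.diagonal f w' ⤳ pullback.diagonal f η := by
        rw [he, ← hq, ← hz, ← Scheme.Hom.comp_apply]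
        exact hsp.map (e ≫ j).continuous
      have hw' := hηmax w' hE ((pullback.diagonal f).isEmbedding.isInducing.specializes_iff.1 hsp')
      subst hw'
      refine (e ≫ j).isEmbedding.injective ?_
      rw [← he, Scheme.Hom.comp_apply, hz, hq]) (r + s) hdC
  -- compare dimensions
  have hzη : (e ≫ j) z = pullback.diagonal f η := by rw [Scheme.Hom.comp_apply, hz, hq]
  have h1 : FibDim.rd ((e ≫ j) ≫ g) z = FibDim.rd g (pullback.diagonal f η) := by
    rw [FibDim.rd_comp, FibDim.rd_eq_zero_of_quasiFinite (e ≫ j), hzη, add_zero]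
  have h2 : FibDim.rd f η = FibDim.rd g (pullback.diagonal f η) := by
    have h3 : pullback.diagonal f ≫ g = f := by simp [g]
    have h4 := FibDim.rd_comp (pullback.diagonal f) g η
    rw [FibDim.rd_eq_zero_of_quasiFinite (pullback.diagonal f), add_zero] at h4
    rw [← h4]
    congr 1 <;> simp [g]
  have h5 : topologicalKrullDim ↥Z = ((FibDim.rd f η : ℕ∞) : WithBot ℕ∞) := by
    rw [← FibDim.topologicalKrullDim_closure f η, hηs]
    exact ((Topology.IsEmbedding.subtypeVal.homeomorphImage Z).isHomeomorph.topologicalKrullDim_eq)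
  rw [h5]
  rw [h1, ← h2] at hd
  exact_mod_cast hd
where
  integral_of {A B : Scheme.{u}} [IsReduced A] (e : A ⟶ B) [IsClosedImmersion e]
      (h : IsIrreducible (Set.range e)) : IsIntegral A := by
    haveI : IrreducibleSpace ↥A := by
      haveI := Subtype.irreducibleSpace h
      exact Function.Surjective.irreducibleSpace e.isEmbedding.toHomeomorph.symm.continuous
        e.isEmbedding.toHomeomorph.symm.surjective
    exact isIntegral_of_irreducibleSpace_of_isReduced _

end Groth.Agent.H9DimInt
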